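import Mathlib
import Groth.Agent.Lib.Lead.QC.TwistExt
import Groth.Agent.Lib.Lead.QC.InvField
import Groth.Agent.Lib.Lead.QC.FreeData
import Groth.Agent.Lib.Lead.QC.TensorComm
import Groth.Agent.Lib.Lead.QC.TensorPow
import Groth.Agent.Lib.Helper5.Glue.F
import Groth.Agent.Lib.Helper5.Curve2.D
import Groth.Agent.Lib.Helper5.DegC.H0Field
import Groth.Agent.Lib.Helper5.AG.ProjProper

/-!
# `F ⊗ L ≅ F` for `F = O ⊕ I ⊕ J ⊕ I ⊗ J` with `I`, `J` two-torsion invertible modules.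
-/

set_option autoImplicit false
universe u
open CategoryTheory CategoryTheory.Limits AlgebraicGeometry TopologicalSpace Opposite

namespace Groth.Agent.H5.Klein

open Groth.Agent.LD Groth.Agent.LD.QC

section abstract

variable {C : Type*} [Category C] [Preadditive C] [HasBinaryBiproducts C]

/-- swap inside both pairs. -/
noncomputable def swapPairs (B A E D : C) : B ⊞ (A ⊞ (E ⊞ D)) ≅ A ⊞ (B ⊞ (D ⊞ E)) :=
  (biprod.associator B A (E ⊞ D)).symm ≪≫
    biprod.mapIso (biprod.braiding B A) (biprod.braiding E D) ≪≫ biprod.associator A B (D ⊞ E)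

/-- swap the two pairs. -/
noncomputable def swapHalves (D E A B : C) : D ⊞ (E ⊞ (A ⊞ B)) ≅ A ⊞ (B ⊞ (D ⊞ E)) :=
  (biprod.associator D E (A ⊞ B)).symm ≪≫ biprod.braiding (D ⊞ E) (A ⊞ B) ≪≫
    biprod.associator A B (D ⊞ E)

/-- an additive functor applied to a fourfold biproduct. -/
noncomputable def four (G : C ⥤ C) [G.Additive] {A B D E A' B' D' E' : C}
    (e1 : G.obj A ≅ A') (e2 : G.obj B ≅ B') (e3 : G.obj D ≅ D') (e4 : G.obj E ≅ E') :
    G.obj (A ⊞ (B ⊞ (D ⊞ E))) ≅ A' ⊞ (B' ⊞ (D' ⊞ E')) :=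
  haveI : PreservesBinaryBiproducts G := preservesBinaryBiproducts_of_preservesBiproducts G
  G.mapBiprod A (B ⊞ (D ⊞ E)) ≪≫ biprod.mapIso e1 (G.mapBiprod B (D ⊞ E) ≪≫
    biprod.mapIso e2 (G.mapBiprod D E ≪≫ biprod.mapIso e3 e4))

lemma comp_eq_zero_of_four {A B D E T : C} (u : T ⟶ A ⊞ (B ⊞ (D ⊞ E)))
    (v : A ⊞ (B ⊞ (D ⊞ E)) ⟶ T)
    (h1 : (u ≫ biprod.fst) ≫ (biprod.inl ≫ v) = 0)
    (h2 : (u ≫ biprod.snd ≫ biprod.fst) ≫ (biprod.inl ≫ biprod.inr ≫ v) = 0)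
    (h3 : (u ≫ biprod.snd ≫ biprod.snd ≫ biprod.fst) ≫
      (biprod.inl ≫ biprod.inr ≫ biprod.inr ≫ v) = 0)
    (h4 : (u ≫ biprod.snd ≫ biprod.snd ≫ biprod.snd) ≫
      (biprod.inr ≫ biprod.inr ≫ biprod.inr ≫ v) = 0) : u ≫ v = 0 := by
  have t1 : 𝟙 (A ⊞ (B ⊞ (D ⊞ E))) = biprod.fst ≫ biprod.inl +
      biprod.snd ≫ (biprod.fst ≫ biprod.inl +
        biprod.snd ≫ (biprod.fst ≫ biprod.inl + biprod.snd ≫ biprod.inr) ≫ biprod.inr) ≫
          biprod.inr := by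
    simp only [biprod.total, Category.id_comp]
  have t2 : u ≫ v = u ≫ 𝟙 _ ≫ v := by rw [Category.id_comp]
  rw [t2, t1]
  simp only [Preadditive.add_comp, Preadditive.comp_add, Category.assoc] at h1 h2 h3 h4 ⊢
  rw [h1, h2, h3, h4]
  simp

end abstract

variable {X : Scheme.{u}} [IsIntegral X]

/-- invertible modules `A`, `P` with `P` two-torsion and maps `A ⟶ P ⟶ A` with nonzero composite
are isomorphic, when global functions form a field. -/
theorem iso_of_maps (hfield : IsField (Γ(X, ⊤) : Type u)) {A P : X.Modules}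
    (hA : PicF.IsInvertible A) (hP : PicF.IsInvertible P)
    (ε : CohB1.tensorMod P P ≅ unitMod X) (a : A ⟶ P) (b : P ⟶ A) (hab : a ≫ b ≠ 0) :
    Nonempty (A ≅ P) := by
  haveI : (twF P).IsEquivalence := twF_isEquivalence P P ε
  have ha : a ≠ 0 := by
    rintro rfl
    exact hab zero_comp
  have hb : b ≠ 0 := by
    rintro rfl
    exact hab comp_zero
  have hs : ε.inv ≫ (twF P).map b ≠ 0 := by
    intro h
    have h2 : (twF P).map b = 0 := (cancel_epi ε.inv).mp (h.trans comp_zero.symm)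
    exact hb ((twF P).map_injective (h2.trans ((twF P).map_zero _ _).symm))
  have ht : (twF P).map a ≫ ε.hom ≠ 0 := by
    intro h
    have h2 : (twF P).map a = 0 := (cancel_mono ε.hom).mp (h.trans zero_comp.symm)
    exact ha ((twF P).map_injective (h2.trans ((twF P).map_zero _ _).symm))
  obtain ⟨φ⟩ := nonempty_iso_unit_of_sections hfield ((twF P).obj A)
    (isInvertible_tensorMod hA hP) (ε.inv ≫ (twF P).map b) hs ((twF P).map a ≫ ε.hom) ht
  exact ⟨(twF P).preimageIso (φ ≪≫ ε.symm)⟩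

theorem klein (hfield : IsField (Γ(X, ⊤) : Type u)) (I J L : X.Modules)
    (hI : PicF.IsInvertible I) (hJ : PicF.IsInvertible J) (hL : PicF.IsInvertible L)
    (εI : CohB1.tensorMod I I ≅ unitMod X) (εJ : CohB1.tensorMod J J ≅ unitMod X) :
    Nonempty (CohB1.tensorMod (unitMod X ⊞ I ⊞ J ⊞ CohB1.tensorMod I J) L ≅
        unitMod X ⊞ I ⊞ J ⊞ CohB1.tensorMod I J) ↔
      (Nonempty (L ≅ unitMod X) ∨ Nonempty (L ≅ I) ∨ Nonempty (L ≅ J) ∨
        Nonempty (L ≅ CohB1.tensorMod I J)) := by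
  haveI := qc_of_isInvertible I hI
  haveI := qc_of_isInvertible J hJ
  haveI := qc_of_isInvertible L hL
  have hK : PicF.IsInvertible (CohB1.tensorMod I J) := isInvertible_tensorMod hI hJ
  haveI := qc_of_isInvertible _ hK
  haveI := qc_of_isInvertible _ (isInvertible_unit X)
  let εK : CohB1.tensorMod (CohB1.tensorMod I J) (CohB1.tensorMod I J) ≅ unitMod X :=
    tensorMiddleFour I J I J ≪≫ tensorIso' εI εJ ≪≫ unitorL' (unitMod X)
  constructor
  · rintro ⟨e⟩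
    by_contra hcon
    rw [not_or, not_or, not_or] at hcon
    obtain ⟨hO, hI', hJ', hK'⟩ := hcon
    let e' : (twF L).obj (unitMod X ⊞ I ⊞ J ⊞ CohB1.tensorMod I J) ≅
      unitMod X ⊞ I ⊞ J ⊞ CohB1.tensorMod I J := e
    -- the summand `O ⊗ L`
    let L' : X.Modules := (twF L).obj (unitMod X)
    have hL' : PicF.IsInvertible L' := isInvertible_tensorMod (isInvertible_unit X) hL
    let c : L' ≅ L := unitorL' L
    let u : L' ⟶ unitMod X ⊞ I ⊞ J ⊞ CohB1.tensorMod I J := (twF L).map biprod.inl ≫ e'.hom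
    let v : (unitMod X ⊞ I ⊞ J ⊞ CohB1.tensorMod I J) ⟶ L' := e'.inv ≫ (twF L).map biprod.fst
    have huv : u ≫ v = 𝟙 L' := by
      change ((twF L).map biprod.inl ≫ e'.hom) ≫ e'.inv ≫ (twF L).map biprod.fst = 𝟙 _
      rw [Category.assoc, e'.hom_inv_id_assoc, ← CategoryTheory.Functor.map_comp, biprod.inl_fst,
        CategoryTheory.Functor.map_id]
    have key : ∀ (P : X.Modules), PicF.IsInvertible P →
        (CohB1.tensorMod P P ≅ unitMod X) → ¬ Nonempty (L ≅ P) →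
        ∀ (a : L' ⟶ P) (b : P ⟶ L'), a ≫ b = 0 := by
      intro P hP ε hn a b
      by_contra hab
      obtain ⟨φ⟩ := iso_of_maps hfield hL' hP ε a b hab
      exact hn ⟨c.symm ≪≫ φ⟩
    have h0 : u ≫ v = 0 := comp_eq_zero_of_four u v
      (key _ (isInvertible_unit X) (unitorL' (unitMod X)) hO _ _)
      (key _ hI εI hI' _ _) (key _ hJ εJ hJ' _ _) (key _ hK εK hK' _ _)
    rw [huv] at h0
    exact Groth.Agent.H5.Curve2.not_isZero_of_isInvertible hL' ((IsZero.iff_id_eq_zero _).mpr h0)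
  · rintro (⟨⟨c⟩⟩ | ⟨⟨c⟩⟩ | ⟨⟨c⟩⟩ | ⟨⟨c⟩⟩)
    · exact ⟨(twFCongr c ≪≫ twFUnit).app _⟩
    · refine ⟨four (twF L) (unitorL' L ≪≫ c) (tensorIso' (Iso.refl I) c ≪≫ εI)
        (tensorIso' (Iso.refl J) c ≪≫ tensorCommAll J I)
        (tensorIso' (Iso.refl (CohB1.tensorMod I J)) c ≪≫
          tensorIso' (tensorCommAll I J) (Iso.refl I) ≪≫ tensorAssoc J I I ≪≫
          tensorIso' (Iso.refl J) εI ≪≫ SecTwist.unitorR J) ≪≫ swapPairs _ _ _ _⟩
    · refine ⟨four (twF L) (unitorL' L ≪≫ c) (tensorIso' (Iso.refl I) c)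
        (tensorIso' (Iso.refl J) c ≪≫ εJ)
        (tensorIso' (Iso.refl (CohB1.tensorMod I J)) c ≪≫ tensorAssoc I J J ≪≫
          tensorIso' (Iso.refl I) εJ ≪≫ SecTwist.unitorR I) ≪≫ swapHalves _ _ _ _⟩
    · refine ⟨four (twF L) (unitorL' L ≪≫ c)
        (tensorIso' (Iso.refl I) c ≪≫ (tensorAssoc I I J).symm ≪≫
          tensorIso' εI (Iso.refl J) ≪≫ unitorL' J)
        (tensorIso' (Iso.refl J) (c ≪≫ tensorCommAll I J) ≪≫ (tensorAssoc J J I).symm ≪≫
          tensorIso' εJ (Iso.refl I) ≪≫ unitorL' I)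
        (tensorIso' (Iso.refl (CohB1.tensorMod I J)) c ≪≫ εK) ≪≫
        swapPairs _ _ _ _ ≪≫ swapHalves _ _ _ _⟩

end Groth.Agent.H5.Klein
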